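import Mathlib.RingTheory.Kaehler.Polynomial
import Mathlib.LinearAlgebra.ExteriorPower.Basic
import Mathlib.LinearAlgebra.CliffordAlgebra.Contraction
import Mathlib.LinearAlgebra.Eigenspace.Basic
import Mathlib.Algebra.MvPolynomial.Derivation

/-!
# The polynomial Poincaré lemma
-/

set_option autoImplicit false
set_option linter.style.haveILetI false

noncomputable section

universe u

open MvPolynomial

namespace Groth.Agent.H23Poincare

variable {k : Type u} [Field k] {n : ℕ}

variable (k n) in
/-- Differentials. -/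
abbrev Omega : Type u := KaehlerDifferential k (MvPolynomial (Fin n) k)

variable (k n) in
/-- The exterior algebra of differentials. -/
abbrev EA : Type u := ExteriorAlgebra (MvPolynomial (Fin n) k) (Omega k n)

/-- Coordinate differential. -/
abbrev dX (i : Fin n) : Omega k n := KaehlerDifferential.D k (MvPolynomial (Fin n) k) (MvPolynomial.X i)

/-- Products of the coordinate differentials. -/
def V (l : List (Fin n)) : (EA k n) := (l.map fun i => ExteriorAlgebra.ι (MvPolynomial (Fin n) k) (dX i)).prod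

theorem V_nil : V (k := k) ([] : List (Fin n)) = 1 := rfl

theorem V_cons (i : Fin n) (l : List (Fin n)) : V (k := k) (i :: l) = ExteriorAlgebra.ι (MvPolynomial (Fin n) k) (dX i) * V l :=
  List.prod_cons

theorem mem_pow_of_len (l : List (Fin n)) : V (k := k) l ∈ ExteriorAlgebra.exteriorPower (MvPolynomial (Fin n) k) l.length (Omega k n) := by
  induction l with
  | nil => rw [V_nil, List.length_nil]; exact Submodule.one_le.1 (pow_zero _).ge
  | cons i l ih =>
    rw [V_cons, List.length_cons, ExteriorAlgebra.exteriorPower, pow_succ']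
    exact Submodule.mul_mem_mul ⟨_, rfl⟩ ih

theorem pow_le (p : ℕ) :
    ExteriorAlgebra.exteriorPower (MvPolynomial (Fin n) k) p (Omega k n) ≤ Submodule.span (MvPolynomial (Fin n) k) {w : (EA k n) | ∃ l : List (Fin n), l.length = p ∧ w = V l} := by
  induction p with
  | zero =>
    rw [ExteriorAlgebra.exteriorPower, pow_zero, Submodule.one_le]
    exact Submodule.subset_span ⟨[], rfl, rfl⟩
  | succ p ih =>
    have hr : LinearMap.range (ExteriorAlgebra.ι (MvPolynomial (Fin n) k) (M := (Omega k n))) ≤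
        Submodule.span (MvPolynomial (Fin n) k) (Set.range fun i => ExteriorAlgebra.ι (MvPolynomial (Fin n) k) (dX i)) := by
      rintro _ ⟨m, rfl⟩
      rw [← (KaehlerDifferential.mvPolynomialBasis k (Fin n)).sum_repr m, map_sum]
      refine Submodule.sum_mem _ fun i _ => ?_
      rw [map_smul]
      refine Submodule.smul_mem _ _ (Submodule.subset_span ⟨i, ?_⟩)
      rw [KaehlerDifferential.mvPolynomialBasis_apply]
    rw [ExteriorAlgebra.exteriorPower, pow_succ']
    refine (mul_le_mul' hr ih).trans ?_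
    rw [Submodule.span_mul_span, Submodule.span_le]
    rintro _ ⟨_, ⟨i, rfl⟩, _, ⟨l, hl, rfl⟩, rfl⟩
    exact Submodule.subset_span ⟨i :: l, by simp [hl], (V_cons i l).symm⟩

/-- The Euler derivation. -/
def euler : Derivation k (MvPolynomial (Fin n) k) (MvPolynomial (Fin n) k) := MvPolynomial.mkDerivation k X

theorem euler_monomial (s : Fin n →₀ ℕ) :
    euler (monomial s (1 : k)) = (s.sum fun _ e => e) • monomial s (1 : k) := by
  classical
  rw [euler, mkDerivation_monomial, one_smul, Finsupp.sum, Finsupp.sum, Finset.sum_smul]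
  refine Finset.sum_congr rfl fun i hi => ?_
  have hi1 : 1 ≤ s i := Nat.one_le_iff_ne_zero.2 (Finsupp.mem_support_iff.1 hi)
  rw [smul_eq_mul, MvPolynomial.X, monomial_mul, mul_one, tsub_add_cancel_of_le (Finsupp.single_le_iff.2 hi1),
    ← map_nsmul, nsmul_one]

/-- Contraction with the Euler field. -/
def con : (EA k n) →ₗ[(MvPolynomial (Fin n) k)] (EA k n) :=
  CliffordAlgebra.contractLeft (Q := (0 : QuadraticForm (MvPolynomial (Fin n) k) (Omega k n))) (euler (k := k) (n := n)).liftKaehlerDifferential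

theorem con_ι_mul (m : (Omega k n)) (b : (EA k n)) :
    con (ExteriorAlgebra.ι (MvPolynomial (Fin n) k) m * b) =
      (euler (k := k) (n := n)).liftKaehlerDifferential m • b - ExteriorAlgebra.ι (MvPolynomial (Fin n) k) m * con b :=
  CliffordAlgebra.contractLeft_ι_mul _ _ _

theorem con_algebraMap (a : (MvPolynomial (Fin n) k)) : con (algebraMap (MvPolynomial (Fin n) k) (EA k n) a) = 0 := CliffordAlgebra.contractLeft_algebraMap (Q := (0 : QuadraticForm (MvPolynomial (Fin n) k) (Omega k n))) _ _

theorem con_one : con (1 : (EA k n)) = 0 := CliffordAlgebra.contractLeft_one (Q := (0 : QuadraticForm (MvPolynomial (Fin n) k) (Omega k n))) _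

theorem lift_D (a : (MvPolynomial (Fin n) k)) : (euler (k := k) (n := n)).liftKaehlerDifferential (KaehlerDifferential.D k (MvPolynomial (Fin n) k) a) = euler a :=
  Derivation.liftKaehlerDifferential_comp_D _ _

theorem lift_dx (i : Fin n) : (euler (k := k) (n := n)).liftKaehlerDifferential (dX i) = X i := by
  rw [lift_D, euler, mkDerivation_X]

theorem con_mem (i : Fin n) (l : List (Fin n)) :
    con (V (k := k) (i :: l)) ∈ ExteriorAlgebra.exteriorPower (MvPolynomial (Fin n) k) l.length (Omega k n) := by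
  induction l generalizing i with
  | nil =>
    rw [V_cons, con_ι_mul, lift_dx, V_nil, con_one, mul_zero, sub_zero]
    exact Submodule.smul_mem _ _ (Submodule.one_le.1 (pow_zero _).ge)
  | cons j l ih =>
    rw [V_cons, con_ι_mul, lift_dx]
    refine Submodule.sub_mem _ (Submodule.smul_mem _ _ (mem_pow_of_len _)) ?_
    rw [List.length_cons, ExteriorAlgebra.exteriorPower, pow_succ']
    exact Submodule.mul_mem_mul ⟨_, rfl⟩ (ih j)

theorem con_mem_of_mem {p : ℕ} {ω : (EA k n)} (hω : ω ∈ ExteriorAlgebra.exteriorPower (MvPolynomial (Fin n) k) (p + 1) (Omega k n)) :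
    con ω ∈ ExteriorAlgebra.exteriorPower (MvPolynomial (Fin n) k) p (Omega k n) := by
  refine Submodule.span_le (p := (ExteriorAlgebra.exteriorPower (MvPolynomial (Fin n) k) p (Omega k n)).comap con).2 ?_ (pow_le (p + 1) hω)
  rintro _ ⟨l, hl, rfl⟩
  obtain _ | ⟨i, l⟩ := l
  · simp at hl
  · simp only [List.length_cons, Nat.add_right_cancel_iff] at hl
    exact hl ▸ con_mem i l

section

variable (d : (EA k n) →ₗ[k] (EA k n))
  (h0 : ∀ a : (MvPolynomial (Fin n) k), d (algebraMap (MvPolynomial (Fin n) k) (EA k n) a) = ExteriorAlgebra.ι (MvPolynomial (Fin n) k) (KaehlerDifferential.D k (MvPolynomial (Fin n) k) a))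
  (hder : ∀ (p : ℕ) (ω η : (EA k n)), ω ∈ ExteriorAlgebra.exteriorPower (MvPolynomial (Fin n) k) p (Omega k n) → d (ω * η) = d ω * η + (-1) ^ p * ω * d η)
  (hdd : ∀ ω, d (d ω) = 0)

/-- The Lie derivative along the Euler field. -/
def lie : (EA k n) →ₗ[k] (EA k n) := d ∘ₗ con.restrictScalars k + con.restrictScalars k ∘ₗ d

include h0 hder

theorem d_smul (a : (MvPolynomial (Fin n) k)) (η : (EA k n)) : d (a • η) = ExteriorAlgebra.ι (MvPolynomial (Fin n) k) (KaehlerDifferential.D k (MvPolynomial (Fin n) k) a) * η + a • d η := by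
  have ha : algebraMap (MvPolynomial (Fin n) k) (EA k n) a ∈ ExteriorAlgebra.exteriorPower (MvPolynomial (Fin n) k) 0 (Omega k n) := by
    rw [ExteriorAlgebra.exteriorPower, pow_zero]
    exact Submodule.mem_one.2 ⟨a, rfl⟩
  rw [Algebra.smul_def, hder 0 _ η ha, h0, pow_zero, one_mul, ← Algebra.smul_def]

theorem d_one : d 1 = 0 := by
  rw [← map_one (algebraMap (MvPolynomial (Fin n) k) (EA k n)), h0, Derivation.map_one_eq_zero, map_zero]

include hdd

theorem d_dx_mul (i : Fin n) (η : (EA k n)) : d (ExteriorAlgebra.ι (MvPolynomial (Fin n) k) (dX i) * η) = -(ExteriorAlgebra.ι (MvPolynomial (Fin n) k) (dX i) * d η) := by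
  have h1 : ExteriorAlgebra.ι (MvPolynomial (Fin n) k) (dX i) ∈ ExteriorAlgebra.exteriorPower (MvPolynomial (Fin n) k) 1 (Omega k n) := by
    rw [ExteriorAlgebra.exteriorPower, pow_one]
    exact ⟨_, rfl⟩
  have h2 : d (ExteriorAlgebra.ι (MvPolynomial (Fin n) k) (dX i)) = 0 := by rw [← h0, hdd]
  rw [hder 1 _ η h1, h2, zero_mul, zero_add, pow_one, neg_one_mul, neg_mul]

theorem d_V (l : List (Fin n)) : d (V l) = 0 := by
  induction l with
  | nil => rw [V_nil, d_one d h0 hder]
  | cons i l ih => rw [V_cons, d_dx_mul d h0 hder hdd, ih, mul_zero, neg_zero]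

theorem d_con_V (l : List (Fin n)) : d (con (V l)) = l.length • V (k := k) l := by
  induction l with
  | nil => rw [V_nil, con_one, map_zero, List.length_nil, zero_smul]
  | cons i l ih =>
    rw [V_cons, con_ι_mul, lift_dx, map_sub, d_smul d h0 hder, d_dx_mul d h0 hder hdd, ih, d_V d h0 hder hdd,
      smul_zero, add_zero, List.length_cons, succ_nsmul', sub_neg_eq_add, mul_smul_comm]

theorem lie_smul (a : (MvPolynomial (Fin n) k)) (l : List (Fin n)) : lie d (a • V l) = euler a • V l + l.length • (a • V (k := k) l) := by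
  show d (con (a • V l)) + con (d (a • V l)) = _
  rw [map_smul con, d_smul d h0 hder, d_smul d h0 hder, d_con_V d h0 hder hdd, d_V d h0 hder hdd, smul_zero,
    add_zero, con_ι_mul, lift_D, smul_comm a l.length]
  abel

theorem closed_const [CharZero k] (a : (MvPolynomial (Fin n) k)) (ha : d (algebraMap (MvPolynomial (Fin n) k) (EA k n) a) = 0) : ∃ c : k, a = C c := by
  have h := lie_smul d h0 hder hdd a []
  rw [List.length_nil, zero_smul, add_zero, V_nil, ← Algebra.algebraMap_eq_smul_one, ← Algebra.algebraMap_eq_smul_one] at h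
  have he : euler a = 0 := by
    refine ExteriorAlgebra.algebraMap_leftInverse (Omega k n) |>.injective ?_
    rw [map_zero, ← h]
    show d (con _) + con (d _) = 0
    rw [con_algebraMap, map_zero, ha, map_zero, add_zero]
  have hc : ∀ (b : (MvPolynomial (Fin n) k)) (s : Fin n →₀ ℕ), coeff s (euler b) = ((s.sum fun _ e => e : ℕ) : k) * coeff s b := by
    intro b s
    induction b using MvPolynomial.induction_on' with
    | monomial t c =>
      rw [← mul_one c, ← smul_eq_mul, ← smul_monomial, Derivation.map_smul, euler_monomial]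
      classical
      rw [coeff_smul, coeff_smul, coeff_smul, coeff_monomial, smul_eq_mul, smul_eq_mul, nsmul_eq_mul]
      split
      · subst_vars; ring
      · ring
    | add p q hp hq => rw [map_add, coeff_add, coeff_add, hp, hq, mul_add]
  refine ⟨coeff 0 a, MvPolynomial.ext _ _ fun s => ?_⟩
  classical
  rw [coeff_C]
  split_ifs with hs
  · rw [hs]
  · have := hc a s
    rw [he, coeff_zero] at this
    refine (mul_eq_zero.1 this.symm).resolve_left (Nat.cast_ne_zero.2 fun h' => hs ?_)
    ext i
    by_contra hi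
    exact hi (Nat.eq_zero_of_le_zero (h' ▸ Finset.single_le_sum (fun j _ => Nat.zero_le (s j))
      (Finsupp.mem_support_iff.2 (Ne.symm hi))) ).symm

theorem mem_iSup_eigenspace [CharZero k] {p : ℕ} {ω : (EA k n)} (hω : ω ∈ ExteriorAlgebra.exteriorPower (MvPolynomial (Fin n) k) (p + 1) (Omega k n)) :
    ω ∈ Submodule.span k {w : (EA k n) | ∃ (s : Fin n →₀ ℕ) (l : List (Fin n)), l.length = p + 1 ∧
      w = monomial s (1 : k) • V l} := by
  refine Submodule.span_induction (p := fun x _ => ∀ a : (MvPolynomial (Fin n) k), a • x ∈ Submodule.span k _) ?_ ?_ ?_ ?_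
    (pow_le (p + 1) hω) 1 |> fun h => by simpa using h
  · rintro _ ⟨l, hl, rfl⟩ a
    induction a using MvPolynomial.induction_on' with
    | monomial t c =>
      rw [← mul_one c, ← smul_eq_mul, ← smul_monomial, smul_assoc]
      exact Submodule.smul_mem _ _ (Submodule.subset_span ⟨t, l, hl, rfl⟩)
    | add p q hp hq => rw [add_smul]; exact Submodule.add_mem _ hp hq
  · intro a; rw [smul_zero]; exact Submodule.zero_mem _
  · intro x y _ _ hx hy a; rw [smul_add]; exact Submodule.add_mem _ (hx a) (hy a)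
  · intro b x _ hx a; rw [smul_smul]; exact hx _

theorem lie_mono (s : Fin n →₀ ℕ) (l : List (Fin n)) :
    lie d (monomial s (1 : k) • V l) =
      (((s.sum fun _ e => e) + l.length : ℕ) : k) • (monomial s (1 : k) • V l) := by
  rw [lie_smul d h0 hder hdd, euler_monomial, smul_assoc, ← add_smul, Nat.cast_smul_eq_nsmul]

theorem lie_surj [CharZero k] {p : ℕ} {ω : (EA k n)} (hω : ω ∈ ExteriorAlgebra.exteriorPower (MvPolynomial (Fin n) k) (p + 1) (Omega k n)) :
    ∃ η ∈ ExteriorAlgebra.exteriorPower (MvPolynomial (Fin n) k) (p + 1) (Omega k n), lie d η = ω := by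
  have h := mem_iSup_eigenspace d h0 hder hdd hω
  refine Submodule.span_le (p := ((ExteriorAlgebra.exteriorPower (MvPolynomial (Fin n) k) (p + 1) (Omega k n)).restrictScalars k).map (lie d)).2 ?_ h
  rintro _ ⟨s, l, hl, rfl⟩
  refine ⟨(((s.sum fun _ e => e) + l.length : ℕ) : k)⁻¹ • (monomial s (1 : k) • V l),
    Submodule.smul_mem _ _ ?_, ?_⟩
  · exact hl ▸ Submodule.smul_mem _ _ (mem_pow_of_len l)
  · rw [map_smul, lie_mono d h0 hder hdd, inv_smul_smul₀ (Nat.cast_ne_zero.2 (by omega))]

theorem lie_inj [CharZero k] {p : ℕ} {ω : (EA k n)} (hω : ω ∈ ExteriorAlgebra.exteriorPower (MvPolynomial (Fin n) k) (p + 1) (Omega k n))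
    (h : lie d ω = 0) : ω = 0 := by
  have hspan := mem_iSup_eigenspace d h0 hder hdd hω
  have h1 : ω ∈ Module.End.eigenspace (lie d) 0 := by
    rw [Module.End.mem_eigenspace_iff, zero_smul]; exact h
  have h2 : ω ∈ ⨆ (j : k) (_ : j ≠ 0), Module.End.eigenspace (lie d) j := by
    refine Submodule.span_le.2 ?_ hspan
    rintro _ ⟨s, l, hl, rfl⟩
    refine Submodule.mem_iSup_of_mem (((s.sum fun _ e => e) + l.length : ℕ) : k)
      (Submodule.mem_iSup_of_mem (Nat.cast_ne_zero.2 (by omega)) ?_)
    exact Module.End.mem_eigenspace_iff.2 (lie_mono d h0 hder hdd s l)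
  exact (Submodule.disjoint_def.1 (Module.End.eigenspaces_iSupIndep (lie d) 0)) ω h1 h2

theorem closed_exact [CharZero k]
    (hdeg : ∀ (p : ℕ) (ω : (EA k n)), ω ∈ ExteriorAlgebra.exteriorPower (MvPolynomial (Fin n) k) p (Omega k n) → d ω ∈ ExteriorAlgebra.exteriorPower (MvPolynomial (Fin n) k) (p + 1) (Omega k n))
    {p : ℕ} {ω : (EA k n)} (hω : ω ∈ ExteriorAlgebra.exteriorPower (MvPolynomial (Fin n) k) (p + 1) (Omega k n)) (hc : d ω = 0) :
    ∃ θ ∈ ExteriorAlgebra.exteriorPower (MvPolynomial (Fin n) k) p (Omega k n), d θ = ω := by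
  obtain ⟨η, hη, he⟩ := lie_surj d h0 hder hdd hω
  have he' : d (con η) + con (d η) = ω := he
  refine ⟨con η, con_mem_of_mem hη, ?_⟩
  have h1 : d η = 0 := by
    refine lie_inj d h0 hder hdd (hdeg _ _ hη) ?_
    show d (con (d η)) + con (d (d η)) = 0
    rw [hdd, map_zero, add_zero]
    have := congrArg d he'
    rwa [map_add, hdd, zero_add, hc] at this
  rwa [h1, map_zero, add_zero] at he'

end

end Groth.Agent.H23Poincare
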